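import Cfsg.Agent.Lib.StructB.HN2HS.S12600.F0
import Cfsg.Agent.Lib.StructB.HN2HS.S12600.F1
import Cfsg.Agent.Lib.StructB.HN2HS.S12600.F2
import Cfsg.Agent.Lib.StructB.HN2HS.S12600.F3
import Cfsg.Agent.Lib.StructB.HN2HS.S12600.F4
import Cfsg.Agent.Lib.StructB.HN2HS.S12600.F5
import Cfsg.Agent.Lib.StructB.HN2HS.S12600.F6
import Cfsg.Agent.Lib.StructB.HN2HS.S12600.F7
import Cfsg.Agent.Lib.StructB.HN2HS.S12600.F8

/-! The assembled certificate. -/

set_option autoImplicit false
set_option maxRecDepth 100000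
set_option Elab.async false

namespace CfsgLib.StructB.HN2HS.S12600

open CfsgLib.InvChar.Coset CfsgLib.KnownA.CosetInv

theorem chk_rows0 : cert.chkRows table live fin 2000 0 = true := by decide +kernel

theorem chk_rows1 : cert.chkRows table live fin 2000 2000 = true := by decide +kernel

theorem chk_rows2 : cert.chkRows table live fin 2000 4000 = true := by decide +kernel

theorem chk_rows3 : cert.chkRows table live fin 2000 6000 = true := by decide +kernel

theorem chk_rows4 : cert.chkRows table live fin 2000 8000 = true := by decide +kernel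

theorem chk_rows5 : cert.chkRows table live fin 2000 10000 = true := by decide +kernel

theorem chk_rows6 : cert.chkRows table live fin 600 12000 = true := by decide +kernel

theorem facts_ok : ∀ j < 554, cert.chkRun 128 (j * 128) (cert.just.get j) = true := by
  intro j hj
  rcases Nat.lt_or_ge j 64 with h0 | h0
  · obtain ⟨i, rfl⟩ : ∃ i, j = 0 + i := ⟨j - 0, by omega⟩
    exact cert.chkBlocks_get 64 0 chk_facts0 i (by omega)
  rcases Nat.lt_or_ge j 128 with h1 | h1
  · obtain ⟨i, rfl⟩ : ∃ i, j = 64 + i := ⟨j - 64, by omega⟩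
    exact cert.chkBlocks_get 64 64 chk_facts1 i (by omega)
  rcases Nat.lt_or_ge j 192 with h2 | h2
  · obtain ⟨i, rfl⟩ : ∃ i, j = 128 + i := ⟨j - 128, by omega⟩
    exact cert.chkBlocks_get 64 128 chk_facts2 i (by omega)
  rcases Nat.lt_or_ge j 256 with h3 | h3
  · obtain ⟨i, rfl⟩ : ∃ i, j = 192 + i := ⟨j - 192, by omega⟩
    exact cert.chkBlocks_get 64 192 chk_facts3 i (by omega)
  rcases Nat.lt_or_ge j 320 with h4 | h4
  · obtain ⟨i, rfl⟩ : ∃ i, j = 256 + i := ⟨j - 256, by omega⟩
    exact cert.chkBlocks_get 64 256 chk_facts4 i (by omega)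
  rcases Nat.lt_or_ge j 384 with h5 | h5
  · obtain ⟨i, rfl⟩ : ∃ i, j = 320 + i := ⟨j - 320, by omega⟩
    exact cert.chkBlocks_get 64 320 chk_facts5 i (by omega)
  rcases Nat.lt_or_ge j 448 with h6 | h6
  · obtain ⟨i, rfl⟩ : ∃ i, j = 384 + i := ⟨j - 384, by omega⟩
    exact cert.chkBlocks_get 64 384 chk_facts6 i (by omega)
  rcases Nat.lt_or_ge j 512 with h7 | h7
  · obtain ⟨i, rfl⟩ : ∃ i, j = 448 + i := ⟨j - 448, by omega⟩
    exact cert.chkBlocks_get 64 448 chk_facts7 i (by omega)
  rcases Nat.lt_or_ge j 554 with h8 | h8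
  · obtain ⟨i, rfl⟩ : ∃ i, j = 512 + i := ⟨j - 512, by omega⟩
    exact cert.chkBlocks_get 42 512 chk_facts8 i (by omega)
  omega

theorem covered : Covered cert table live fin where
  hn := by decide +kernel
  ivlt := by decide +kernel
  facts := ⟨554, by decide +kernel, facts_ok⟩
  rows := by
    intro i hi
    have hi : i < 12600 := hi
    rcases Nat.lt_or_ge i 2000 with h0 | h0
    · exact cert.chkRows_get 2000 0 chk_rows0 i (by omega) (by omega)
    rcases Nat.lt_or_ge i 4000 with h1 | h1
    · exact cert.chkRows_get 2000 2000 chk_rows1 i (by omega) (by omega)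
    rcases Nat.lt_or_ge i 6000 with h2 | h2
    · exact cert.chkRows_get 2000 4000 chk_rows2 i (by omega) (by omega)
    rcases Nat.lt_or_ge i 8000 with h3 | h3
    · exact cert.chkRows_get 2000 6000 chk_rows3 i (by omega) (by omega)
    rcases Nat.lt_or_ge i 10000 with h4 | h4
    · exact cert.chkRows_get 2000 8000 chk_rows4 i (by omega) (by omega)
    rcases Nat.lt_or_ge i 12000 with h5 | h5
    · exact cert.chkRows_get 2000 10000 chk_rows5 i (by omega) (by omega)
    rcases Nat.lt_or_ge i 12600 with h6 | h6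
    · exact cert.chkRows_get 600 12000 chk_rows6 i (by omega) (by omega)
    omega
  root := by decide +kernel

end CfsgLib.StructB.HN2HS.S12600
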